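import Cfsg.Agent.Spor.Cert
import Cfsg.Agent.Spor.J3k.C0

set_option autoImplicit false
set_option maxRecDepth 100000000
set_option Elab.async false
set_option linter.unusedSectionVars false

namespace Cfsg.Agent.Spor.J3k

theorem hT : T.Ok 1 := T.ok_of 1 (show AllP (fun n => Net.okb 1 n = true) [n0, n1, n2, n3, n4, n5, n6, n7, n8, n9, n10, n11] from AllP.cons ok0 (AllP.cons ok1 (AllP.cons ok2 (AllP.cons ok3 (AllP.cons ok4 (AllP.cons ok5 (AllP.cons ok6 (AllP.cons ok7 (AllP.cons ok8 (AllP.cons ok9 (AllP.cons ok10 (AllP.cons ok11 (AllP.nil)))))))))))))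

noncomputable def fP : ℕ → Equiv.Perm ℕ := T.fP gs

theorem hsq : ∀ j < 11, j < 12 → T.fP gs j * T.fP gs j = 1 :=
  Tab.sq (show AllP (fun z => evA T.τ [z, z] = 1) [1, 2, 3, 4, 5, 6, 7, 8, 9, 10, 11] from AllP.cons (hT.one rel0) (AllP.cons (hT.one rel1) (AllP.cons (hT.one rel2) (AllP.cons (hT.one rel3) (AllP.cons (hT.one rel4) (AllP.cons (hT.one rel5) (AllP.cons (hT.one rel6) (AllP.cons (hT.one rel7) (AllP.cons (hT.one rel8) (AllP.cons (hT.one rel9) (AllP.cons (hT.one rel10) (AllP.nil)))))))))))) 12 rfl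

theorem hiv : IvOk (2 * 11) (atm 12 (T.fP gs)) := ivOk_atm hsq

theorem pz1 : PZ T (atm 12 (T.fP gs)) EX 1 := PZ.of_atom (y := 2 * 0) (by decide +kernel) (atm_two_mul _ (by decide))
theorem pz2 : PZ T (atm 12 (T.fP gs)) EX 2 := PZ.of_atom (y := 2 * 1) (by decide +kernel) (atm_two_mul _ (by decide))
theorem pz3 : PZ T (atm 12 (T.fP gs)) EX 3 := PZ.of_atom (y := 2 * 2) (by decide +kernel) (atm_two_mul _ (by decide))
theorem pz4 : PZ T (atm 12 (T.fP gs)) EX 4 := PZ.of_atom (y := 2 * 3) (by decide +kernel) (atm_two_mul _ (by decide))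
theorem pz5 : PZ T (atm 12 (T.fP gs)) EX 5 := PZ.of_atom (y := 2 * 4) (by decide +kernel) (atm_two_mul _ (by decide))
theorem pz6 : PZ T (atm 12 (T.fP gs)) EX 6 := PZ.of_atom (y := 2 * 5) (by decide +kernel) (atm_two_mul _ (by decide))
theorem pz7 : PZ T (atm 12 (T.fP gs)) EX 7 := PZ.of_atom (y := 2 * 6) (by decide +kernel) (atm_two_mul _ (by decide))
theorem pz8 : PZ T (atm 12 (T.fP gs)) EX 8 := PZ.of_atom (y := 2 * 7) (by decide +kernel) (atm_two_mul _ (by decide))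
theorem pz9 : PZ T (atm 12 (T.fP gs)) EX 9 := PZ.of_atom (y := 2 * 8) (by decide +kernel) (atm_two_mul _ (by decide))
theorem pz10 : PZ T (atm 12 (T.fP gs)) EX 10 := PZ.of_atom (y := 2 * 9) (by decide +kernel) (atm_two_mul _ (by decide))
theorem pz11 : PZ T (atm 12 (T.fP gs)) EX 11 := PZ.of_atom (y := 2 * 10) (by decide +kernel) (atm_two_mul _ (by decide))
theorem pz12 : PZ T (atm 12 (T.fP gs)) EX 12 := PZ.of_atom (y := 2 * 11) (by decide +kernel) (atm_two_mul _ (by decide))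
theorem pz13 : PZ T (atm 12 (T.fP gs)) EX 13 := PZ.of_inv hiv pz12 (by decide +kernel)
theorem hPZ : AllP (PZ T (atm 12 (T.fP gs)) EX) L :=
  show AllP (PZ T (atm 12 (T.fP gs)) EX) [1, 2, 3, 4, 5, 6, 7, 8, 9, 10, 11, 12, 13] from AllP.cons pz1 (AllP.cons pz2 (AllP.cons pz3 (AllP.cons pz4 (AllP.cons pz5 (AllP.cons pz6 (AllP.cons pz7 (AllP.cons pz8 (AllP.cons pz9 (AllP.cons pz10 (AllP.cons pz11 (AllP.cons pz12 (AllP.cons pz13 (AllP.nil)))))))))))))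

theorem hrel : ∀ l ∈ RL, ev (atm 12 (T.fP gs)) l = 1 :=
  relAll_sound hiv (W := [[5, 2, 1, 2, 1], [5, 3, 1, 3, 1], [5, 4, 1, 4, 1], [5, 3, 2, 3, 2], [5, 4, 2, 4, 2], [5, 4, 3, 4, 3], [5, 1, 5, 1], [5, 2, 5, 2], [5, 3, 5, 3], [5, 4, 5, 4], [12, 12, 12], [6, 12, 6, 12, 6, 12], [7, 6, 7, 6, 7, 6], [7, 12, 7, 12], [1, 6, 1, 6], [3, 6, 2, 6], [8, 6, 4, 6], [5, 6, 5, 6], [8, 7, 1, 7], [3, 7, 2, 7], [4, 7, 4, 7], [5, 7, 5, 7], [1, 13, 1, 12], [3, 13, 2, 12], [4, 13, 3, 12], [2, 13, 4, 12], [5, 13, 5, 12], [4, 3, 2, 1, 8], [1, 9, 5, 9], [13, 9, 12, 9], [8, 9, 8, 9, 8, 9], [4, 6, 2, 9, 3, 2, 9], [6, 10, 5, 10], [13, 6, 12, 10, 1, 10], [9, 8, 13, 10, 12, 10], [8, 6, 8, 10, 8, 6, 8, 10, 8, 6, 8, 10], [10, 8, 10, 8, 10, 11], [9, 11, 9, 11, 9, 11], [8, 5, 11, 8, 5, 11, 7, 9, 7]]) (rules := [⟨[5, 2, 1, 2, 1], [], 0, true⟩, ⟨[5, 3, 1, 3, 1], [], 1, true⟩, ⟨[5, 4, 1, 4,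 1], [], 2, true⟩, ⟨[5, 3, 2, 3, 2], [], 3, true⟩, ⟨[5, 4, 2, 4, 2], [], 4, true⟩, ⟨[5, 4, 3, 4, 3], [], 5, true⟩, ⟨[5, 1, 5, 1], [], 6, true⟩, ⟨[5, 2, 5, 2], [], 7, true⟩, ⟨[5, 3, 5, 3], [], 8, true⟩, ⟨[5, 4, 5, 4], [], 9, true⟩, ⟨[12, 12, 12], [], 10, true⟩, ⟨[6, 12, 6, 12, 6, 12], [], 11, true⟩, ⟨[7, 6, 7, 6, 7, 6], [], 12, true⟩, ⟨[7, 12, 7, 12], [], 13, true⟩, ⟨[1, 6, 1, 6], [], 14, true⟩, ⟨[3, 6, 2, 6], [], 15, true⟩, ⟨[8, 6, 4, 6], [], 16, true⟩, ⟨[5, 6, 5, 6], [], 17, true⟩, ⟨[8, 7, 1, 7], [], 18, true⟩, ⟨[3, 7, 2, 7], [], 19, true⟩, ⟨[4, 7, 4, 7], [], 20, true⟩, ⟨[5, 7, 5, 7], [], 21, true⟩, ⟨[1, 13, 1, 12], [], 22, true⟩, ⟨[3, 13, 2, 12], [], 23, true⟩, ⟨[4, 13, 3, 12], [], 24, true⟩, ⟨[2, 13, 4, 12], [], 25, true⟩, ⟨[5, 13, 5, 12], [], 26, true⟩, ⟨[4, 3, 2, 1, 8], [], 27, true⟩, ⟨[1, 9, 5, 9], [], 28, true⟩, ⟨[13, 9, 12, 9], [], 29, true⟩, ⟨[8, 9,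 8, 9, 8, 9], [], 30, true⟩, ⟨[4, 6, 2, 9, 3, 2, 9], [], 31, true⟩, ⟨[6, 10, 5, 10], [], 32, true⟩, ⟨[13, 6, 12, 10, 1, 10], [], 33, true⟩, ⟨[9, 8, 13, 10, 12, 10], [], 34, true⟩, ⟨[8, 6, 8, 10, 8, 6, 8, 10, 8, 6, 8, 10], [], 35, true⟩, ⟨[10, 8, 10, 8, 10, 11], [], 36, true⟩, ⟨[9, 11, 9, 11, 9, 11], [], 37, true⟩, ⟨[8, 5, 11, 8, 5, 11, 7, 9, 7], [], 38, true⟩]) hPZ (AllP.cons (hT.one rel11) (AllP.cons (hT.one rel12) (AllP.cons (hT.one rel13) (AllP.cons (hT.one rel14) (AllP.cons (hT.one rel15) (AllP.cons (hT.one rel16) (AllP.cons (hT.one rel17) (AllP.cons (hT.one rel18) (AllP.cons (hT.one rel19) (AllP.cons (hT.one rel20) (AllP.cons (hT.one rel21) (AllP.cons (hT.one rel22) (AllP.cons (hT.one rel23) (AllP.cons (hT.one rel24) (AllP.cons (hT.one rel25) (AllP.cons (hT.one rel26) (AllP.cons (hT.one rel27) (AllP.cons (hT.one rel28) (AllP.cons (hT.one rel29) (AllP.cons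 (hT.one rel30) (AllP.cons (hT.one rel31) (AllP.cons (hT.one rel32) (AllP.cons (hT.one rel33) (AllP.cons (hT.one rel34) (AllP.cons (hT.one rel35) (AllP.cons (hT.one rel36) (AllP.cons (hT.one rel37) (AllP.cons (hT.one rel38) (AllP.cons (hT.one rel39) (AllP.cons (hT.one rel40) (AllP.cons (hT.one rel41) (AllP.cons (hT.one rel42) (AllP.cons (hT.one rel43) (AllP.cons (hT.one rel44) (AllP.cons (hT.one rel45) (AllP.cons (hT.one rel46) (AllP.cons (hT.one rel47) (AllP.cons (hT.one rel48) (AllP.cons (hT.one rel49) (AllP.nil)))))))))))))))))))))))))))))))))))))))) (by decide +kernel)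

theorem hst : StepsOk F IV RT base 431 1388 := (steps_sound' st0)

section
variable {G : Type} [Group G] {a : ℕ → G} (hi : IvOk (2 * 11) a) (hR : ∀ r ∈ RL, ev a r = 1)
  {H : Subgroup G} (hb : ∀ z ∈ base, letV a EX z ∈ H)
include hi hR hb

theorem let1 : LetOk H (letV a EX) T L 1 :=
  LetOk.of' hT tl1 cov1 (AllP.cons (Just.base (hb 1 (by decide))) (AllP.nil))
theorem let2 : LetOk H (letV a EX) T L 2 :=
  LetOk.of' hT tl2 cov2 (AllP.cons (Just.base (hb 2 (by decide))) (AllP.nil))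
theorem let3 : LetOk H (letV a EX) T L 3 :=
  LetOk.of' hT tl3 cov3 (AllP.cons (Just.base (hb 3 (by decide))) (AllP.nil))
theorem let4 : LetOk H (letV a EX) T L 4 :=
  LetOk.of' hT tl4 cov4 (AllP.cons (Just.base (hb 4 (by decide))) (AllP.nil))
theorem let5 : LetOk H (letV a EX) T L 5 :=
  LetOk.of' hT tl5 cov5 (AllP.cons (Just.base (hb 5 (by decide))) (AllP.nil))
theorem let6 : LetOk H (letV a EX) T L 6 :=
  LetOk.of' hT tl6 cov6 (AllP.cons (Just.base (hb 6 (by decide))) (AllP.nil))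
theorem let7 : LetOk H (letV a EX) T L 7 :=
  LetOk.of' hT tl7 cov7 (AllP.cons (Just.base (hb 7 (by decide))) (AllP.nil))
theorem let8 : LetOk H (letV a EX) T L 8 :=
  LetOk.of' hT tl8 cov8 (AllP.cons (Just.base (hb 8 (by decide))) (AllP.nil))
theorem let9 : LetOk H (letV a EX) T L 9 :=
  LetOk.of' hT tl9 cov9 (AllP.cons (Just.epi hT hi ep0a ep0b (seq_mem hi hR rfl hivk hrt H hb hdefs hst ep0c) ep0d) (AllP.nil))
theorem let10 : LetOk H (letV a EX) T L 10 :=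
  LetOk.of' hT tl10 cov10 (AllP.cons (Just.epi hT hi ep1a ep1b (seq_mem hi hR rfl hivk hrt H hb hdefs hst ep1c) ep1d) (AllP.nil))
theorem let11 : LetOk H (letV a EX) T L 11 :=
  LetOk.of' hT tl11 cov11 (AllP.cons (Just.rot hT hi hR rot11_1 rot11_1r) (AllP.nil))
theorem let12 : LetOk H (letV a EX) T L 12 :=
  LetOk.of' hT tl12 cov12 (AllP.cons (Just.base (hb 12 (by decide))) (AllP.nil))
theorem let13 : LetOk H (letV a EX) T L 13 :=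
  LetOk.of' hT tl13 cov13 (AllP.cons (Just.rot hT hi hR rot13_1 rot13_1r) (AllP.nil))
theorem hlet : AllP (LetOk H (letV a EX) T L) L :=
  show AllP (LetOk H (letV a EX) T L) [1, 2, 3, 4, 5, 6, 7, 8, 9, 10, 11, 12, 13] from AllP.cons (let1 hi hR hb) (AllP.cons (let2 hi hR hb) (AllP.cons (let3 hi hR hb) (AllP.cons (let4 hi hR hb) (AllP.cons (let5 hi hR hb) (AllP.cons (let6 hi hR hb) (AllP.cons (let7 hi hR hb) (AllP.cons (let8 hi hR hb) (AllP.cons (let9 hi hR hb) (AllP.cons (let10 hi hR hb) (AllP.cons (let11 hi hR hb) (AllP.cons (let12 hi hR hb) (AllP.cons (let13 hi hR hb) (AllP.nil)))))))))))))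
end

theorem cert : Cert 12 11 RL BW fP 1 :=
  Cert.of hT ⟨hsq, hrel⟩ hPZ (fun _ _ _ hi hR _ hb => hlet hi hR hb) hcov hg (by decide +kernel)

end Cfsg.Agent.Spor.J3k
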